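import Groth.Prelude.Def_W4c1chowmix47Eta
import Mathlib.Algebra.CharP.Algebra
import Mathlib.Algebra.CharP.Reduced
import Mathlib.RingTheory.Valuation.ValuationSubring
import Mathlib.RingTheory.Valuation.LocalSubring

/-! # The pointwise construction of an endofunctor of fields: evaluation at field-valued points -/

universe u

open EtaPt

namespace Groth.Agent.EtaPt26

variable (η : FieldEndo.{u})

section fields

variable {K L : Type u} [Field K] [Field L]

theorem natural (f : K →+* L) (x : K) : η.map f (η.eta K x) = η.eta L (f x) :=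
  RingHom.congr_fun (η.eta_natural f) x

theorem map_id_apply (x : η.obj K) : η.map (RingHom.id K) x = x := by rw [η.map_id]; rfl

theorem map_comp_apply {E : Type u} [Field E] (f : K →+* L) (g : L →+* E) (x : η.obj K) :
    η.map (g.comp f) x = η.map g (η.map f x) := by rw [η.map_comp]; rfl

/-- Powers by the exponential characteristic are injective in every field over `K`. -/
theorem pow_inj {M : Type u} [Field M] (h : K →+* M) {a b : M} (n : ℕ)
    (e : a ^ ringExpChar K ^ n = b ^ ringExpChar K ^ n) : a = b := by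
  have : ExpChar M (ringExpChar K) := expChar_of_injective_ringHom h.injective _
  exact iterateFrobenius_inj M (ringExpChar K) n (by simpa only [iterateFrobenius_def] using e)

/-- Maps out of `F K` are determined by their restriction to `K`. -/
theorem hom_ext {M : Type u} [Field M] (h₁ h₂ : η.obj K →+* M)
    (e : h₁.comp (η.eta K) = h₂.comp (η.eta K)) : h₁ = h₂ := by
  refine RingHom.ext fun x => ?_
  obtain ⟨n, a, ha⟩ := η.exists_pow_mem_range_eta K x
  refine pow_inj (h₁.comp (η.eta K)) n ?_
  rw [← map_pow, ← map_pow, ← ha]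
  exact RingHom.congr_fun e a

theorem map_eta_eq : η.map (η.eta K) = η.eta (η.obj K) := hom_ext η _ _ (η.eta_natural (η.eta K))

theorem bijective_eta_obj : Function.Bijective (η.eta (η.obj K)) := by
  rw [← map_eta_eq η]
  exact η.bijective_map_eta K

theorem map_inj {f g : K →+* L} (h : η.map f = η.map g) : f = g :=
  RingHom.ext fun x => (η.eta L).injective (by rw [← natural η f, ← natural η g, h])

theorem bijective_map_equiv (e : K ≃+* L) : Function.Bijective (η.map e.toRingHom) := by
  refine ⟨RingHom.injective _, fun y => ⟨η.map e.symm.toRingHom y, ?_⟩⟩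
  rw [← map_comp_apply, RingEquiv.toRingHom_comp_symm_toRingHom, map_id_apply]

theorem bijective_eta_congr (e : K ≃+* L) (h : Function.Bijective (η.eta K)) : Function.Bijective (η.eta L) := by
  refine ⟨RingHom.injective _, fun y => ?_⟩
  obtain ⟨z, rfl⟩ := (bijective_map_equiv η e).2 y
  obtain ⟨a, rfl⟩ := h.2 z
  exact ⟨e a, (natural η e.toRingHom a).symm⟩

theorem bijective_eta_of_expChar_one (h : ringExpChar K = 1) : Function.Bijective (η.eta K) := by
  refine ⟨RingHom.injective _, fun y => ?_⟩
  obtain ⟨n, a, ha⟩ := η.exists_pow_mem_range_eta K y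
  exact ⟨a, by rw [ha, h, one_pow, pow_one]⟩

end fields

theorem inV_iff (R : Type u) [CommRing R] [IsDomain R] (K : Type u) [Field K] [Algebra R K] [IsFractionRing R K] :
    η.InV R ↔ Function.Bijective (η.eta K) :=
  ⟨bijective_eta_congr η (FractionRing.algEquiv R K).toRingEquiv,
    bijective_eta_congr η (FractionRing.algEquiv R K).toRingEquiv.symm⟩

theorem inV_valuationSubring {L : Type u} [Field L] (hL : Function.Bijective (η.eta L)) (V : ValuationSubring L) :
    η.InV V :=
  (inV_iff η V L).2 hL

section evF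

variable {A B : Type u} [CommRing A] [CommRing B] {L : Type u} [Field L]

/-- The kernel of a field-valued point. -/
def kerPt (g : A →+* L) : PrimeSpectrum A := ⟨RingHom.ker g, RingHom.ker_isPrime g⟩

/-- The map of residue fields of a field-valued point. -/
noncomputable def ptLift (g : A →+* L) : (kerPt g).asIdeal.ResidueField →+* L :=
  Ideal.ResidueField.lift _ g le_rfl fun _ hx => isUnit_iff_ne_zero.2 hx

theorem ptLift_comp (g : A →+* L) : (ptLift g).comp (algebraMap A _) = g :=
  RingHom.ext fun a =>
    Ideal.ResidueField.lift_algebraMap (kerPt g).asIdeal g le_rfl (fun _ hx => isUnit_iff_ne_zero.2 hx) a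

theorem ptLift_algebraMap (g : A →+* L) (a : A) : ptLift g (algebraMap A _ a) = g a :=
  RingHom.congr_fun (ptLift_comp g) a

/-- Evaluation of a family at a field-valued point. -/
noncomputable def evF (g : A →+* L) : η.N A →+* η.obj L :=
  (η.map (ptLift g)).comp (Pi.evalRingHom (fun p : PrimeSpectrum A => η.obj p.asIdeal.ResidueField) (kerPt g))

theorem evF_apply (g : A →+* L) (x : η.N A) : evF η g x = η.map (ptLift g) (x (kerPt g)) := rfl

theorem kerPt_eq_of (g : A →+* L) (p : PrimeSpectrum A) (ψ : p.asIdeal.ResidueField →+* L)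
    (hψ : ψ.comp (algebraMap A _) = g) : kerPt g = p := by
  refine PrimeSpectrum.ext ?_
  show RingHom.ker g = p.asIdeal
  rw [← hψ, RingHom.ker_comp_of_injective _ ψ.injective, Ideal.ker_algebraMap_residueField]

theorem evF_eq (g : A →+* L) (p : PrimeSpectrum A) (ψ : p.asIdeal.ResidueField →+* L)
    (hψ : ψ.comp (algebraMap A _) = g) (x : η.N A) : evF η g x = η.map ψ (x p) := by
  obtain rfl := kerPt_eq_of g p ψ hψ
  rw [evF_apply, show ψ = ptLift g from Ideal.ResidueField.ringHom_ext (hψ.trans (ptLift_comp g).symm)]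

theorem evF_algebraMap (p : PrimeSpectrum A) (x : η.N A) :
    evF η (algebraMap A p.asIdeal.ResidueField) x = x p := by
  exact (evF_eq η _ p (RingHom.id _) (RingHom.id_comp _) x).trans (map_id_apply η _)

theorem N_ext {x y : η.N A}
    (h : ∀ p : PrimeSpectrum A, evF η (algebraMap A p.asIdeal.ResidueField) x =
      evF η (algebraMap A p.asIdeal.ResidueField) y) : x = y :=
  funext fun p => (evF_algebraMap η p x).symm.trans ((h p).trans (evF_algebraMap η p y))

theorem evF_comp {L' : Type u} [Field L'] (g : A →+* L) (h : L →+* L') (x : η.N A) :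
    evF η (h.comp g) x = η.map h (evF η g x) := by
  rw [evF_eq η (h.comp g) (kerPt g) (h.comp (ptLift g)) (by rw [RingHom.comp_assoc, ptLift_comp]),
    map_comp_apply, evF_apply]

theorem evF_t (g : A →+* L) (a : A) : evF η g (η.t A a) = η.eta L (g a) := by
  rw [evF_apply]
  exact (natural η (ptLift g) _).trans (by rw [ptLift_algebraMap])

theorem Nmap_apply (f : A →+* B) (x : η.N A) (q : PrimeSpectrum B) :
    η.Nmap f x q =
      η.map (Ideal.ResidueField.map (PrimeSpectrum.comap f q).asIdeal q.asIdeal f rfl) (x (PrimeSpectrum.comap f q)) :=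
  rfl

theorem evF_Nmap (f : A →+* B) (g : B →+* L) (x : η.N A) : evF η g (η.Nmap f x) = evF η (g.comp f) x := by
  rw [evF_apply, Nmap_apply, evF_eq η (g.comp f) (PrimeSpectrum.comap f (kerPt g))
    ((ptLift g).comp (Ideal.ResidueField.map _ _ f rfl)) (RingHom.ext fun a => by
      show ptLift g (Ideal.ResidueField.map _ _ f rfl (algebraMap A _ a)) = g (f a)
      erw [Ideal.ResidueField.map_algebraMap]
      exact ptLift_algebraMap g (f a)), map_comp_apply]

theorem Nmap_eq_evF (f : A →+* B) (x : η.N A) (q : PrimeSpectrum B) :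
    η.Nmap f x q = evF η ((algebraMap B q.asIdeal.ResidueField).comp f) x := by
  rw [← evF_Nmap, evF_algebraMap]

theorem Nmap_comp {C : Type u} [CommRing C] (f : A →+* B) (g : B →+* C) (x : η.N A) :
    η.Nmap (g.comp f) x = η.Nmap g (η.Nmap f x) :=
  N_ext η fun p => by simp only [evF_Nmap, RingHom.comp_assoc]

theorem Nmap_id (x : η.N A) : η.Nmap (RingHom.id A) x = x :=
  N_ext η fun p => by rw [evF_Nmap, RingHom.comp_id]

theorem Nmap_t (f : A →+* B) (a : A) : η.Nmap f (η.t A a) = η.t B (f a) := η.Nmap_t_apply f a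

theorem t_eq_zero_iff (a : A) : η.t A a = 0 ↔ IsNilpotent a := by
  rw [nilpotent_iff_mem_prime]
  constructor
  · intro h P hP
    have h0 : η.eta P.ResidueField (algebraMap A P.ResidueField a) = 0 := congrFun h ⟨P, hP⟩
    exact Ideal.algebraMap_residueField_eq_zero.1 ((map_eq_zero _).1 h0)
  · intro h
    funext p
    show η.eta _ (algebraMap A p.asIdeal.ResidueField a) = 0
    rw [Ideal.algebraMap_residueField_eq_zero.2 (h _ p.2), map_zero]

theorem t_injective [IsReduced A] : Function.Injective (η.t A) :=
  (injective_iff_map_eq_zero _).2 fun a ha => ((t_eq_zero_iff η a).1 ha).eq_zero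

/-- Membership in `M`, read off on all field-valued points of valuation rings. -/
theorem mem_M_iff (x : η.N A) : x ∈ η.M A ↔
    ∀ (R : Type u) [CommRing R] [IsDomain R] [ValuationRing R], η.InV R → ∀ g : A →+* R,
      ∃ r : R, ∀ q : PrimeSpectrum R, evF η ((algebraMap R q.asIdeal.ResidueField).comp g) x =
        η.eta _ (algebraMap R q.asIdeal.ResidueField r) := by
  constructor
  · intro hx R _ _ _ hR g
    obtain ⟨r, hr⟩ := hx R hR g
    refine ⟨r, fun q => ?_⟩
    rw [← evF_Nmap, evF_algebraMap, ← congrFun hr q]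
    rfl
  · intro h R _ _ _ hR g
    obtain ⟨r, hr⟩ := h R hR g
    exact ⟨r, funext fun q => (hr q).symm.trans (Nmap_eq_evF η g x q).symm⟩

theorem evF_of_mem_M {x : η.N A} (hx : x ∈ η.M A) (R : Type u) [CommRing R] [IsDomain R] [ValuationRing R]
    (hR : η.InV R) (g : A →+* R) :
    ∃ r : R, ∀ (L' : Type u) [Field L'] (h : R →+* L'), evF η (h.comp g) x = η.eta L' (h r) := by
  obtain ⟨r, hr⟩ := hx R hR g
  refine ⟨r, fun L' _ h => ?_⟩
  rw [← evF_Nmap, ← hr, evF_t]

theorem Nmap_mem_M (f : A →+* B) {x : η.N A} (hx : x ∈ η.M A) : η.Nmap f x ∈ η.M B := by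
  intro R _ _ _ hR g
  rw [← Nmap_comp]
  exact hx R hR (g.comp f)

/-- The component at a prime, as an element of a valuation ring of `F(k(p))`. -/
theorem exists_mem_valuationSubring {x : η.N A} (hx : x ∈ η.M A) (p : PrimeSpectrum A)
    (V : ValuationSubring (η.obj p.asIdeal.ResidueField)) (g : A →+* V)
    (hg : ∀ a, (g a : η.obj p.asIdeal.ResidueField) = η.eta _ (algebraMap A _ a)) :
    ∃ v : V, (v : η.obj p.asIdeal.ResidueField) = x p ∧
      ∀ (L' : Type u) [Field L'] (h : V →+* L'), evF η (h.comp g) x = η.eta L' (h v) := by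
  obtain ⟨v, hv⟩ := evF_of_mem_M η hx V (inV_valuationSubring η (bijective_eta_obj η) V) g
  refine ⟨v, (η.eta _).injective ?_, hv⟩
  refine (hv _ V.subtype).symm.trans ?_
  rw [evF_eq η _ p (η.eta _) (RingHom.ext fun a => (hg a).symm), map_eta_eq]

/-- A valuation ring dominating a given prime. -/
theorem exists_dominate (g : A →+* L) (P : PrimeSpectrum A) (hP : RingHom.ker g ≤ P.asIdeal) :
    ∃ (V : ValuationSubring L) (g' : A →+* V),
      (∀ a, (g' a : L) = g a) ∧ (IsLocalRing.maximalIdeal V).comap g' = P.asIdeal := by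
  have hu : ∀ s : P.asIdeal.primeCompl, IsUnit (g s) := fun s =>
    isUnit_iff_ne_zero.2 fun h => s.2 (hP h)
  let l : Localization.AtPrime P.asIdeal →+* L :=
    IsLocalization.lift (M := P.asIdeal.primeCompl) (g := g) hu
  obtain ⟨V, h, hloc⟩ := IsLocalRing.exists_factor_valuationRing l
  let l' : Localization.AtPrime P.asIdeal →+* V := l.codRestrict V.toSubring h
  haveI : IsLocalHom l' := hloc
  refine ⟨V, l'.comp (algebraMap A _), fun a => IsLocalization.lift_eq hu a, ?_⟩
  have e : (IsLocalRing.maximalIdeal V).comap l' = IsLocalRing.maximalIdeal _ :=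
    ((IsLocalRing.local_hom_TFAE l').out 0 4).1 ‹IsLocalHom l'›
  rw [← Ideal.comap_comap, e]
  exact IsLocalization.AtPrime.under_maximalIdeal _ P.asIdeal

end evF

end Groth.Agent.EtaPt26
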