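import Groth.Agent.Lib.EtaPt26.Basic
import Mathlib.RingTheory.Ideal.MinimalPrime.Basic
import Mathlib.RingTheory.IntegralClosure.IntegrallyClosed

/-! # Structure of `M η A` -/

universe u

open EtaPt

namespace Groth.Agent.EtaPt26

variable (η : FieldEndo.{u}) {A : Type u} [CommRing A]

/-- The component of an element of `M` at a prime. -/
noncomputable def evP (p : PrimeSpectrum A) : η.M A →+* η.obj p.asIdeal.ResidueField :=
  (Pi.evalRingHom (fun p : PrimeSpectrum A => η.obj p.asIdeal.ResidueField) p).comp (η.M A).subtype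

@[simp] theorem evP_apply (p : PrimeSpectrum A) (x : η.M A) : evP η p x = (x : η.N A) p := rfl

theorem evP_q (p : PrimeSpectrum A) (a : A) :
    evP η p (η.q A a) = η.eta _ (algebraMap A p.asIdeal.ResidueField a) := rfl

theorem evP_comp_q (p : PrimeSpectrum A) :
    (evP η p).comp (η.q A) = (η.eta _).comp (algebraMap A p.asIdeal.ResidueField) := rfl

theorem ker_point (p : PrimeSpectrum A) :
    RingHom.ker ((η.eta _).comp (algebraMap A p.asIdeal.ResidueField)) = p.asIdeal := by
  rw [RingHom.ker_comp_of_injective _ (RingHom.injective _), Ideal.ker_algebraMap_residueField]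

/-- Centred valuation rings send an element of `M` into them, compatibly with its components. -/
theorem exists_centre (p P : PrimeSpectrum A) (hle : p.asIdeal ≤ P.asIdeal) {x : η.N A} (hx : x ∈ η.M A)
    (h0 : x p = 0) : x P = 0 := by
  obtain ⟨V, g, hg, hc⟩ := exists_dominate ((η.eta _).comp (algebraMap A p.asIdeal.ResidueField)) P
    (by rw [ker_point]; exact hle)
  obtain ⟨v, hv, hv'⟩ := exists_mem_valuationSubring η hx p V g hg
  have h1 := hv' _ (IsLocalRing.residue V)
  have hv0 : v = 0 := Subtype.ext (hv.trans h0)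
  rw [hv0, map_zero, map_zero, evF_apply, map_eq_zero] at h1
  have hk : kerPt ((IsLocalRing.residue V).comp g) = P := by
    refine PrimeSpectrum.ext ?_
    show RingHom.ker _ = P.asIdeal
    rw [← RingHom.comap_ker, IsLocalRing.ker_residue, hc]
  rwa [hk] at h1

/-- Each component of an element of `M` is integral. -/
theorem isIntegralElem_apply {x : η.N A} (hx : x ∈ η.M A) (p : PrimeSpectrum A) :
    ((η.eta _).comp (algebraMap A p.asIdeal.ResidueField)).IsIntegralElem (x p) := by
  let g := (η.eta _).comp (algebraMap A p.asIdeal.ResidueField)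
  letI : Algebra A (η.obj p.asIdeal.ResidueField) := g.toAlgebra
  show IsIntegral A (x p)
  by_contra hni
  let R := (integralClosure A (η.obj p.asIdeal.ResidueField)).toSubring
  haveI : IsIntegrallyClosedIn R (η.obj p.asIdeal.ResidueField) := by
    rw [Subring.isIntegrallyClosedIn_iff]
    intro y hy
    exact isIntegral_trans (A := integralClosure A (η.obj p.asIdeal.ResidueField)) y hy
  obtain ⟨V, hV, hxV⟩ := Subring.exists_le_valuationSubring_of_isIntegrallyClosedIn
    (R := R) (x := x p) hni
  obtain ⟨v, hv, -⟩ := exists_mem_valuationSubring η hx p V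
    (g.codRestrict V.toSubring fun a => hV ((integralClosure A (η.obj p.asIdeal.ResidueField)).algebraMap_mem' a)) fun a => rfl
  exact hxV (hv ▸ v.2)

/-- An element of `M` is determined by its components at minimal primes. -/
theorem eq_zero_of_minimal {x : η.N A} (hx : x ∈ η.M A)
    (h : ∀ p : PrimeSpectrum A, p.asIdeal ∈ minimalPrimes A → x p = 0) : x = 0 := by
  funext P
  obtain ⟨p, hp, hle⟩ := Ideal.exists_minimalPrimes_le (bot_le (a := P.asIdeal))
  exact exists_centre η ⟨p, hp.1.1⟩ P hle hx (h ⟨p, hp.1.1⟩ hp)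

theorem eq_of_generic [IsDomain A] {x y : η.N A} (hx : x ∈ η.M A) (hy : y ∈ η.M A)
    (h : x ⟨⊥, Ideal.isPrime_bot⟩ = y ⟨⊥, Ideal.isPrime_bot⟩) : x = y :=
  sub_eq_zero.1 (funext fun P => exists_centre η ⟨⊥, Ideal.isPrime_bot⟩ P bot_le (sub_mem hx hy)
    (sub_eq_zero.2 h))

instance isReduced_M : IsReduced (η.M A) :=
  isReduced_of_injective (η.M A).subtype Subtype.val_injective

theorem ext_minimal {x y : η.M A}
    (h : ∀ p : PrimeSpectrum A, p.asIdeal ∈ minimalPrimes A → evP η p x = evP η p y) : x = y :=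
  Subtype.ext (sub_eq_zero.1 (eq_zero_of_minimal η (sub_mem x.2 y.2) fun p hp => sub_eq_zero.2 (h p hp)))

/-- The minimal points. -/
theorem finite_minPts (hA : (minimalPrimes A).Finite) :
    {p : PrimeSpectrum A | p.asIdeal ∈ minimalPrimes A}.Finite :=
  hA.preimage fun _ _ _ _ h => PrimeSpectrum.ext h

theorem isIntegral_q (hA : (minimalPrimes A).Finite) : (η.q A).IsIntegral := by
  classical
  intro x
  have h : ∀ p : PrimeSpectrum A, ∃ f : Polynomial A, f.Monic ∧
      Polynomial.eval₂ ((evP η p).comp (η.q A)) (evP η p x) f = 0 :=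
    fun p => isIntegralElem_apply η x.2 p
  choose f hf hfx using h
  refine ⟨∏ p ∈ (finite_minPts hA).toFinset, f p, Polynomial.monic_prod_of_monic _ _ fun p _ => hf p, ?_⟩
  rw [Polynomial.eval₂_finsetProd]
  refine ext_minimal η fun p hp => ?_
  rw [map_prod, map_zero]
  refine Finset.prod_eq_zero ((finite_minPts hA).mem_toFinset.2 hp) ?_
  rw [Polynomial.hom_eval₂]
  exact hfx p

/-- Every prime of `M` is the kernel of a component. -/
theorem prime_eq_ker (hA : (minimalPrimes A).Finite) (Q : PrimeSpectrum (η.M A)) :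
    Q.asIdeal = RingHom.ker (evP η (PrimeSpectrum.comap (η.q A) Q)) := by
  classical
  obtain ⟨p, -, hp⟩ : ∃ p ∈ (finite_minPts hA).toFinset, RingHom.ker (evP η p) ≤ Q.asIdeal := by
    refine (Ideal.IsPrime.prod_le Q.2).1 (Ideal.prod_le_inf.trans ?_)
    intro x hx
    rw [Submodule.mem_finsetInf] at hx
    rw [ext_minimal η (x := x) (y := 0) fun p hp => by
      rw [map_zero]; exact RingHom.mem_ker.1 (hx p ((finite_minPts hA).mem_toFinset.2 hp))]
    exact zero_mem _
  obtain ⟨V, g', hg', hc⟩ := exists_dominate (evP η p) Q hp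
  ext x
  obtain ⟨v, hv, hv'⟩ := exists_mem_valuationSubring η x.2 p V (g'.comp (η.q A)) fun a => hg' _
  have hvx : v = g' x := Subtype.ext (hv.trans (hg' x).symm)
  have h1 := hv' _ (IsLocalRing.residue V)
  have hk : kerPt ((IsLocalRing.residue V).comp (g'.comp (η.q A))) = PrimeSpectrum.comap (η.q A) Q := by
    refine PrimeSpectrum.ext ?_
    show RingHom.ker _ = _
    rw [← RingHom.comap_ker, IsLocalRing.ker_residue, ← Ideal.comap_comap, hc]
    rfl
  rw [← hc, Ideal.mem_comap, RingHom.mem_ker, evP_apply, ← hvx, ← IsLocalRing.residue_eq_zero_iff,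
    ← map_eq_zero (η.eta (IsLocalRing.ResidueField V)), ← h1, evF_apply, map_eq_zero, hk]

theorem comap_q_bijective (hA : (minimalPrimes A).Finite) :
    Function.Bijective (PrimeSpectrum.comap (η.q A)) := by
  refine ⟨fun Q Q' h => PrimeSpectrum.ext ?_, fun P => ⟨⟨_, RingHom.ker_isPrime (evP η P)⟩, PrimeSpectrum.ext ?_⟩⟩
  · rw [prime_eq_ker η hA Q, prime_eq_ker η hA Q', h]
  · show (RingHom.ker (evP η P)).comap (η.q A) = P.asIdeal
    rw [RingHom.comap_ker]
    exact ker_point η P

end Groth.Agent.EtaPt26
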