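import Groth.Agent.Lib.EtaPt26.Univ
import Mathlib.RingTheory.Localization.Away.Basic
import Mathlib.RingTheory.Spectrum.Prime.Topology
import Mathlib.Tactic.LinearCombination

/-! # The relative construction, valuation rings, localisation -/

universe u

open EtaPt

namespace Groth.Agent.EtaPt26

variable {η : FieldEndo.{u}} {A B : Type u} [CommRing A] [CommRing B] {f : A →+* B}

theorem mem_rel_iff {b : B} : b ∈ η.rel f ↔ ∃ x ∈ η.M A, η.Nmap f x = η.t B b := Iff.rfl

theorem injective_Nmap_of_surjective (hs : Function.Surjective (PrimeSpectrum.comap f)) :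
    Function.Injective (η.Nmap f) := by
  intro x y h
  funext P
  obtain ⟨Q, rfl⟩ := hs P
  exact (η.map _).injective (congrFun h Q)

/-- The map from the relative construction to `M`. -/
theorem exists_rho (hs : Function.Surjective (PrimeSpectrum.comap f)) :
    ∃ ρ : η.rel f →+* η.M A, (∀ b, η.Nmap f (ρ b : η.N A) = η.t B b) ∧ ρ.comp (η.qRel f) = η.q A := by
  have inj := injective_Nmap_of_surjective (η := η) hs
  have h : ∀ b : η.rel f, ∃ x : η.M A, η.Nmap f (x : η.N A) = η.t B b := fun b => by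
    obtain ⟨x, hx, e⟩ := mem_rel_iff.1 b.2
    exact ⟨⟨x, hx⟩, e⟩
  choose r hr using h
  refine ⟨⟨⟨⟨r, ?_⟩, ?_⟩, ?_, ?_⟩, hr, RingHom.ext fun a => Subtype.ext (inj ?_)⟩
  · exact Subtype.ext (inj (by rw [hr, OneMemClass.coe_one, map_one, OneMemClass.coe_one, map_one]))
  · exact fun x y => Subtype.ext (inj (by simp only [hr, MulMemClass.coe_mul, map_mul]))
  · exact Subtype.ext (inj (by simp only [hr, ZeroMemClass.coe_zero, map_zero]))
  · exact fun x y => Subtype.ext (inj (by simp only [hr, AddMemClass.coe_add, map_add]))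
  · exact (hr (η.qRel f a)).trans (Nmap_t η f a).symm

theorem isIntegral_qRel (hA : (minimalPrimes A).Finite) (hs : Function.Surjective (PrimeSpectrum.comap f)) :
    (η.qRel f).IsIntegral := by
  obtain ⟨ρ, hρ, hq⟩ := exists_rho (η := η) hs
  intro b
  obtain ⟨P, hP, hPb⟩ := isIntegral_q η hA (ρ b)
  have h0 : η.t B ((Polynomial.eval₂ (η.qRel f) b P : η.rel f) : B) = 0 := by
    rw [← hρ, Polynomial.hom_eval₂, hq, hPb, ZeroMemClass.coe_zero, map_zero]
  obtain ⟨n, hn⟩ := (t_eq_zero_iff η _).1 h0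
  refine ⟨P ^ n, hP.pow n, ?_⟩
  rw [Polynomial.eval₂_pow]
  exact Subtype.ext hn

theorem comap_rho_surjective (hA : (minimalPrimes A).Finite) {ρ : η.rel f →+* η.M A}
    (hρ : ∀ b, η.Nmap f (ρ b : η.N A) = η.t B b) (hq : ρ.comp (η.qRel f) = η.q A) :
    Function.Surjective (PrimeSpectrum.comap ρ) := by
  have hint : ρ.IsIntegral := by
    refine RingHom.IsIntegral.tower_top (η.qRel f) ρ ?_
    rw [hq]
    exact isIntegral_q η hA
  letI := ρ.toAlgebra
  haveI : Algebra.IsIntegral (η.rel f) (η.M A) := ⟨hint⟩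
  intro P
  obtain ⟨Q, -, hQ, e⟩ := Ideal.exists_ideal_over_prime_of_isIntegral P.asIdeal (⊥ : Ideal (η.M A)) (by
    intro x hx
    have h0 : ρ x = 0 := hx
    have h : η.t B x = 0 := by rw [← hρ, h0, ZeroMemClass.coe_zero, map_zero]
    obtain ⟨n, hn⟩ := (t_eq_zero_iff η _).1 h
    exact P.2.mem_of_pow_mem n ((show x ^ n = 0 from Subtype.ext hn) ▸ zero_mem _))
  exact ⟨⟨Q, hQ⟩, PrimeSpectrum.ext e⟩

theorem comap_qRel_bijective (hA : (minimalPrimes A).Finite) (hs : Function.Surjective (PrimeSpectrum.comap f)) :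
    Function.Bijective (PrimeSpectrum.comap (η.qRel f)) := by
  obtain ⟨ρ, hρ, hq⟩ := exists_rho (η := η) hs
  have hb := comap_q_bijective η hA
  have hsρ := comap_rho_surjective hA hρ hq
  have e : ∀ Q, PrimeSpectrum.comap (η.qRel f) (PrimeSpectrum.comap ρ Q) = PrimeSpectrum.comap (η.q A) Q :=
    fun Q => by rw [← hq]; rfl
  refine ⟨fun Q Q' h => ?_, fun P => ?_⟩
  · obtain ⟨R, rfl⟩ := hsρ Q
    obtain ⟨R', rfl⟩ := hsρ Q'
    rw [e, e] at h
    rw [hb.1 h]
  · obtain ⟨R, rfl⟩ := hb.2 P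
    exact ⟨_, e R⟩

theorem factors_qRel (hA : (minimalPrimes A).Finite) (hs : Function.Surjective (PrimeSpectrum.comap f)) :
    Factors η (η.qRel f) := by
  obtain ⟨ρ, hρ, hq⟩ := exists_rho (η := η) hs
  intro Q
  obtain ⟨R, rfl⟩ := comap_rho_surjective hA hρ hq Q
  let P := PrimeSpectrum.comap (η.qRel f) (PrimeSpectrum.comap ρ R)
  have hPR : PrimeSpectrum.comap (η.q A) R = P := by rw [← hq]; rfl
  let u : η.rel f →+* η.obj P.asIdeal.ResidueField := (evP η P).comp ρ
  have hk : RingHom.ker u = (PrimeSpectrum.comap ρ R).asIdeal := by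
    show RingHom.ker ((evP η P).comp ρ) = R.asIdeal.comap ρ
    rw [← RingHom.comap_ker, prime_eq_ker η hA R, hPR]
  refine ⟨Ideal.ResidueField.lift (PrimeSpectrum.comap ρ R).asIdeal u hk.ge
      (fun x hx => isUnit_iff_ne_zero.2 fun h => hx (hk ▸ h)), Ideal.ResidueField.ringHom_ext (RingHom.ext fun a => ?_)⟩
  simp only [RingHom.comp_apply, Ideal.ResidueField.map_algebraMap, Ideal.ResidueField.lift_algebraMap]
  exact congrArg (evP η P) (RingHom.congr_fun hq a)

theorem bijective_Nmap_qRel (hA : (minimalPrimes A).Finite) (hs : Function.Surjective (PrimeSpectrum.comap f)) :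
    Function.Bijective (η.Nmap (η.qRel f)) :=
  bijective_Nmap_of (comap_qRel_bijective hA hs) (factors_qRel hA hs)

theorem range_le_rel {C : Type u} [CommRing C] (g : B →+* C) (h₁ : f.IsIntegral)
    (hN : Function.Bijective (η.Nmap f)) : g.range ≤ η.rel (g.comp f) := by
  rintro _ ⟨b, rfl⟩
  obtain ⟨g', -, hg⟩ := exists_lift h₁ hN
  exact ⟨g' b, (g' b).2, by rw [Nmap_comp, hg, Nmap_t]⟩

theorem rel_map_le {C : Type u} [CommRing C] (g : B →+* C) : (η.rel f).map g ≤ η.rel (g.comp f) := by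
  rintro _ ⟨b, hb, rfl⟩
  obtain ⟨x, hx, e⟩ := mem_rel_iff.1 hb
  exact ⟨x, hx, by rw [Nmap_comp, e, Nmap_t]⟩

theorem bijective_qRel_iff : Function.Bijective (η.qRel f) ↔
    Function.Injective f ∧ ∀ b ∈ η.rel f, ∃ a, f a = b := by
  constructor
  · exact fun h => ⟨fun a a' e => h.1 (Subtype.ext e), fun b hb =>
      (h.2 ⟨b, hb⟩).imp fun a e => congrArg Subtype.val e⟩
  · exact fun h => ⟨fun a a' e => h.1 (congrArg Subtype.val e), fun b =>
      (h.2 b b.2).imp fun a e => Subtype.ext e⟩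

theorem t_mul_eq_zero_of_Nmap_away (a : A) (x : η.N A)
    (h : η.Nmap (algebraMap A (Localization.Away a)) x = 0) : η.t A a * x = 0 := by
  funext P
  show η.eta _ (algebraMap A P.asIdeal.ResidueField a) * x P = 0
  by_cases ha : a ∈ P.asIdeal
  · rw [Ideal.algebraMap_residueField_eq_zero.2 ha, map_zero, zero_mul]
  · obtain ⟨Q, rfl⟩ : P ∈ Set.range (PrimeSpectrum.comap (algebraMap A (Localization.Away a))) := by
      rw [PrimeSpectrum.localization_away_comap_range (Localization.Away a) a]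
      exact ha
    have hx : x (PrimeSpectrum.comap (algebraMap A (Localization.Away a)) Q) = 0 :=
      (map_eq_zero (η.map _)).1 (congrFun h Q)
    rw [hx, mul_zero]

theorem rel_away (φ : A →+* B) (a : A)
    (hM : ∀ y ∈ η.M (Localization.Away a), ∃ x ∈ η.M A, ∃ n : ℕ,
        y * η.t (Localization.Away a) (algebraMap A (Localization.Away a) a) ^ n =
          η.Nmap (algebraMap A (Localization.Away a)) x) :
    ∀ y ∈ η.rel (Localization.awayMap φ a), ∃ x ∈ η.rel φ, ∃ n : ℕ,
        y * algebraMap B (Localization.Away (φ a)) (φ a) ^ n = algebraMap B (Localization.Away (φ a)) x := by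
  intro y hy
  obtain ⟨x', hx', e⟩ := mem_rel_iff.1 hy
  obtain ⟨x, hx, n, hn⟩ := hM x' hx'
  obtain ⟨m, b0, hb⟩ := IsLocalization.Away.surj (φ a) y
  set lA := algebraMap A (Localization.Away a)
  set lB := algebraMap B (Localization.Away (φ a))
  set φ' := Localization.awayMap φ a
  have hsq : φ'.comp lA = lB.comp φ := IsLocalization.map_comp _
  -- the two candidates agree on the open set
  let z := η.t B (φ a) ^ n * η.t B b0 - η.t B (φ a) ^ m * η.Nmap φ x
  have hz : η.Nmap lB z = 0 := by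
    rw [map_sub, map_mul, map_mul, map_pow, map_pow, Nmap_t, Nmap_t, ← Nmap_comp, ← hsq, Nmap_comp, ← hn,
      map_mul, map_pow, e, Nmap_t, ← hb, RingHom.map_mul, RingHom.map_pow,
      show φ' (lA a) = lB (φ a) from RingHom.congr_fun hsq a]
    ring
  have h0 := t_mul_eq_zero_of_Nmap_away (φ a) z hz
  refine ⟨φ a ^ (n + 1) * b0, ⟨η.t A a ^ (m + 1) * x, mul_mem (pow_mem (η.t_mem_M A a) _) hx, ?_⟩, m + n + 1, ?_⟩
  · rw [map_mul, map_pow, Nmap_t, map_mul, map_pow]
    linear_combination -h0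
  · rw [map_mul, map_pow, ← hb]
    ring

end Groth.Agent.EtaPt26
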