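import Groth.Agent.Lib.EtaPt26.M
import Groth.Agent.Lib.UnivHomeoRing26.Subalg
import Mathlib.RingTheory.Valuation.ValuationRing
import Mathlib.RingTheory.IntegralClosure.IntegrallyClosed
import Mathlib.Algebra.GCDMonoid.IntegrallyClosed
import Mathlib.RingTheory.PrincipalIdealDomain
import Mathlib.RingTheory.Valuation.Basic

/-! # Integral maps which are bijective on `N` -/

universe u

open EtaPt

namespace Groth.Agent.EtaPt26

variable (η : FieldEndo.{u}) {A B : Type u} [CommRing A] [CommRing B] (f : A →+* B)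

/-- `η` at the residue field below factors through the residue field above. -/
def Factors : Prop :=
  ∀ Q : PrimeSpectrum B, ∃ φ : Q.asIdeal.ResidueField →+* η.obj (PrimeSpectrum.comap f Q).asIdeal.ResidueField,
    φ.comp (Ideal.ResidueField.map (PrimeSpectrum.comap f Q).asIdeal Q.asIdeal f rfl) =
      η.eta (PrimeSpectrum.comap f Q).asIdeal.ResidueField

variable {η} {f}

theorem bijective_map_of_factor {K L : Type u} [Field K] [Field L] (r : K →+* L) (φ : L →+* η.obj K)
    (h : φ.comp r = η.eta K) : Function.Bijective (η.map r) := by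
  refine ⟨RingHom.injective _, fun z => ?_⟩
  obtain ⟨y, hy⟩ := (η.bijective_map_eta K).2 (η.map φ z)
  refine ⟨y, (η.map φ).injective ?_⟩
  rw [← map_comp_apply, h, hy]

theorem bijective_Nmap_of (hb : Function.Bijective (PrimeSpectrum.comap f)) (hr : Factors η f) :
    Function.Bijective (η.Nmap f) := by
  constructor
  · refine fun x y h => funext fun P => ?_
    obtain ⟨Q, rfl⟩ := hb.2 P
    obtain ⟨φ, hφ⟩ := hr Q
    exact (bijective_map_of_factor _ φ hφ).1 (congrFun h Q)
  · intro y
    have h : ∀ P : PrimeSpectrum A, ∃ z : η.obj P.asIdeal.ResidueField, ∀ (Q : PrimeSpectrum B)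
        (ψ : P.asIdeal.ResidueField →+* Q.asIdeal.ResidueField),
        ψ.comp (algebraMap A _) = (algebraMap B _).comp f → η.map ψ z = y Q := by
      intro P
      obtain ⟨Q, rfl⟩ := hb.2 P
      obtain ⟨φ, hφ⟩ := hr Q
      obtain ⟨z, hz⟩ := (bijective_map_of_factor _ φ hφ).2 (y Q)
      refine ⟨z, fun Q' ψ hψ => ?_⟩
      have e : Q' = Q := by
        refine hb.1 (PrimeSpectrum.ext ?_)
        show Q'.asIdeal.comap f = (PrimeSpectrum.comap f Q).asIdeal
        conv_rhs => rw [← Ideal.ker_algebraMap_residueField (PrimeSpectrum.comap f Q).asIdeal]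
        conv_lhs => rw [← Ideal.ker_algebraMap_residueField Q'.asIdeal, RingHom.comap_ker, ← hψ,
          RingHom.ker_comp_of_injective _ ψ.injective]
      subst e
      rw [← hz]
      congr 2
      refine Ideal.ResidueField.ringHom_ext (hψ.trans (RingHom.ext fun a => ?_))
      exact (Ideal.ResidueField.map_algebraMap _ _ f rfl a).symm
    choose x hx using h
    refine ⟨x, funext fun Q => hx _ Q _ (RingHom.ext fun a => Ideal.ResidueField.map_algebraMap _ _ f rfl a)⟩

theorem surjective_comap_of (hN : Function.Injective (η.Nmap f)) :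
    Function.Surjective (PrimeSpectrum.comap f) := by
  classical
  intro P
  by_contra h
  have h1 : η.Nmap f (Pi.single P 1) = η.Nmap f 0 := funext fun q => by
    rw [Nmap_apply, map_zero, Pi.single_eq_of_ne (fun e => h ⟨q, e⟩), map_zero]
    rfl
  exact one_ne_zero (α := η.obj P.asIdeal.ResidueField)
    ((Pi.single_eq_same (M := fun p : PrimeSpectrum A => η.obj p.asIdeal.ResidueField) P 1).symm.trans
      (congrFun (hN h1) P))

theorem injective_comap_of (hN : Function.Surjective (η.Nmap f)) :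
    Function.Injective (PrimeSpectrum.comap f) := by
  classical
  intro q₁ q₂ h
  by_contra hne
  obtain ⟨x, hx⟩ := hN (Pi.single q₁ 1)
  have key : ∀ q, x (PrimeSpectrum.comap f q) = 0 ↔
      (Pi.single q₁ 1 : η.N B) q = 0 := fun q => by
    rw [← hx, Nmap_apply, map_eq_zero]
  have h2 : x (PrimeSpectrum.comap f q₂) = 0 := (key q₂).2 (Pi.single_eq_of_ne (Ne.symm hne) _)
  have h1 : ¬ x (PrimeSpectrum.comap f q₁) = 0 := fun h0 => by
    simpa using (key q₁).1 h0
  rw [h] at h1
  exact h1 h2

theorem factors_of (hN : Function.Surjective (η.Nmap f)) : Factors η f := by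
  classical
  intro Q
  have hs : Function.Surjective (η.map (Ideal.ResidueField.map (PrimeSpectrum.comap f Q).asIdeal Q.asIdeal f rfl)) :=
    fun z => by
      obtain ⟨x, hx⟩ := hN (Pi.single Q z)
      exact ⟨_, (congrFun hx Q).trans (Pi.single_eq_same _ _)⟩
  refine ⟨((RingEquiv.ofBijective _ ⟨RingHom.injective _, hs⟩).symm.toRingHom).comp (η.eta Q.asIdeal.ResidueField),
    RingHom.ext fun a => (RingEquiv.ofBijective _ ⟨RingHom.injective _, hs⟩).injective ?_⟩
  exact (RingEquiv.apply_symm_apply _ _).trans (natural η _ a).symm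

theorem point_ext (hN : Function.Surjective (η.Nmap f)) {L : Type u} [Field L] (g₁ g₂ : B →+* L)
    (h : g₁.comp f = g₂.comp f) : g₁ = g₂ := by
  refine RingHom.ext fun b => (η.eta L).injective ?_
  obtain ⟨x, hx⟩ := hN (η.t B b)
  rw [← evF_t η g₁, ← evF_t η g₂, ← hx, evF_Nmap, evF_Nmap, h]

theorem point_extend (hN : Function.Bijective (η.Nmap f)) {L : Type u} [Field L]
    (hL : Function.Bijective (η.eta L)) (g : A →+* L) : ∃ g' : B →+* L, g'.comp f = g := by
  let eN := RingEquiv.ofBijective (η.Nmap f) hN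
  let eL := RingEquiv.ofBijective (η.eta L) hL
  refine ⟨eL.symm.toRingHom.comp ((evF η g).comp (eN.symm.toRingHom.comp (η.t B))), RingHom.ext fun a => ?_⟩
  show eL.symm (evF η g (eN.symm (η.t B (f a)))) = g a
  rw [← Nmap_t, show η.Nmap f (η.t A a) = eN (η.t A a) from rfl, eN.symm_apply_apply, evF_t]
  exact eL.symm_apply_apply (g a)

theorem factor_valuation (hf : f.IsIntegral) (hN : Function.Bijective (η.Nmap f))
    (R : Type u) [CommRing R] [IsDomain R] [ValuationRing R] (hR : η.InV R) (g : A →+* R) :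
    ∃ g' : B →+* R, g'.comp f = g := by
  obtain ⟨h, hh⟩ := point_extend hN hR ((algebraMap R (FractionRing R)).comp g)
  have hm : ∀ b, h b ∈ (algebraMap R (FractionRing R)).range := fun b => by
    obtain ⟨P, hP, hPb⟩ := hf b
    haveI : IsIntegrallyClosed R := inferInstance
    refine IsIntegrallyClosed.isIntegral_iff.1 ⟨P.map g, hP.map g, ?_⟩
    rw [Polynomial.eval₂_map, ← hh, ← Polynomial.hom_eval₂, hPb, map_zero]
  choose r hr using hm
  refine ⟨⟨⟨⟨r, ?_⟩, ?_⟩, ?_, ?_⟩, RingHom.ext fun a => IsFractionRing.injective R (FractionRing R) ?_⟩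
  · exact IsFractionRing.injective R (FractionRing R) (by rw [hr, map_one, map_one])
  · exact fun x y => IsFractionRing.injective R (FractionRing R) (by rw [hr, map_mul, map_mul, hr, hr])
  · exact IsFractionRing.injective R (FractionRing R) (by simp only [hr, map_zero])
  · exact fun x y => IsFractionRing.injective R (FractionRing R) (by simp only [hr, map_add])
  · exact (hr (f a)).trans (RingHom.congr_fun hh a)

theorem bijOn_Nmap_M (hf : f.IsIntegral) (hN : Function.Bijective (η.Nmap f)) :
    Set.BijOn (η.Nmap f) (η.M A) (η.M B) := by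
  refine ⟨fun x hx => Nmap_mem_M η f hx, hN.1.injOn, fun y hy => ?_⟩
  obtain ⟨x, rfl⟩ := hN.2 y
  refine ⟨x, fun R _ _ _ hR g => ?_, rfl⟩
  obtain ⟨g', rfl⟩ := factor_valuation hf hN R hR g
  rw [Nmap_comp]
  exact hy R hR g'

/-- The lift of `q` along an integral map which is bijective on `N`. -/
theorem exists_lift (hf : f.IsIntegral) (hN : Function.Bijective (η.Nmap f)) :
    ∃ g' : B →+* η.M A, g'.comp f = η.q A ∧ ∀ b, η.Nmap f (g' b : η.N A) = η.t B b := by
  let eN := RingEquiv.ofBijective (η.Nmap f) hN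
  have hm : ∀ b, eN.symm (η.t B b) ∈ η.M A := fun b => by
    obtain ⟨x, hx, he⟩ := (bijOn_Nmap_M hf hN).2.2 (η.t_mem_M B b)
    rwa [show eN.symm (η.t B b) = x from eN.symm_apply_eq.2 he.symm]
  refine ⟨(eN.symm.toRingHom.comp (η.t B)).codRestrict (η.M A) hm, RingHom.ext fun a => Subtype.ext ?_,
    fun b => eN.apply_symm_apply _⟩
  show eN.symm (η.t B (f a)) = η.t A a
  rw [← Nmap_t]
  exact eN.symm_apply_apply _

theorem lift_unique (hN : Function.Bijective (η.Nmap f)) (g₁ g₂ : B →+* η.M A)
    (h : g₁.comp f = g₂.comp f) : g₁ = g₂ :=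
  RingHom.ext fun b => Subtype.ext (funext fun p =>
    RingHom.congr_fun (point_ext hN.2 ((evP η p).comp g₁) ((evP η p).comp g₂)
      (by rw [RingHom.comp_assoc, RingHom.comp_assoc, h])) b)

theorem existsUnique_lift (hf : f.IsIntegral) (hN : Function.Bijective (η.Nmap f)) :
    ∃! g' : B →+* η.M A, g'.comp f = η.q A := by
  obtain ⟨g', hg, -⟩ := exists_lift hf hN
  exact ⟨g', hg, fun g hg' => lift_unique hN g g' (hg'.trans hg.symm)⟩

/-- Extension of a field-valued point along an integral map, after closing the field. -/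
theorem exists_extend_point (hf : f.IsIntegral) (hs : Function.Surjective (PrimeSpectrum.comap f)) {L : Type u}
    [Field L] [IsAlgClosed L] (g : A →+* L) : ∃ h : B →+* L, h.comp f = g := by
  haveI : (RingHom.ker g).IsPrime := RingHom.ker_isPrime g
  obtain ⟨Q, hQ⟩ := hs ⟨RingHom.ker g, ‹_›⟩
  have hle : RingHom.ker f ≤ RingHom.ker g := by
    intro a ha
    have : a ∈ (PrimeSpectrum.comap f Q).asIdeal := by
      show f a ∈ Q.asIdeal
      rw [RingHom.mem_ker.1 ha]; exact zero_mem _
    rwa [hQ] at this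
  obtain ⟨h, hh⟩ := UnivHomeoRing26.exists_extend (RingHom.kerLift f) (RingHom.kerLift_injective f)
    (fun c => by
      obtain ⟨p, hp, he⟩ := hf c
      refine ⟨p.map (Ideal.Quotient.mk _), hp.map _, ?_⟩
      rw [Polynomial.eval₂_map, show (RingHom.kerLift f).comp (Ideal.Quotient.mk _) = f from
        RingHom.ext fun a => RingHom.kerLift_mk f a]
      exact he)
    (Ideal.Quotient.lift (RingHom.ker f) g fun a ha => hle ha)
  refine ⟨h, RingHom.ext fun a => ?_⟩
  have := RingHom.congr_fun hh (Ideal.Quotient.mk _ a)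
  rw [RingHom.comp_apply, RingHom.kerLift_mk] at this
  exact this

theorem factors_q (hA : (minimalPrimes A).Finite) : Factors η (η.q A) := by
  intro Q
  let P := PrimeSpectrum.comap (η.q A) Q
  refine ⟨Ideal.ResidueField.lift Q.asIdeal (evP η P) (prime_eq_ker η hA Q).le (fun x hx =>
    isUnit_iff_ne_zero.2 fun h => hx ((prime_eq_ker η hA Q).symm ▸ h)), Ideal.ResidueField.ringHom_ext ?_⟩
  refine RingHom.ext fun a => ?_
  simp only [RingHom.comp_apply, Ideal.ResidueField.map_algebraMap, Ideal.ResidueField.lift_algebraMap]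
  rfl

theorem bijective_Nmap_q (hA : (minimalPrimes A).Finite) : Function.Bijective (η.Nmap (η.q A)) :=
  bijective_Nmap_of (comap_q_bijective η hA) (factors_q hA)

theorem Nmap_q_eq_t (hA : (minimalPrimes A).Finite) (x : η.M A) :
    η.Nmap (η.q A) (x : η.N A) = η.t (η.M A) x := by
  funext Q
  let P := PrimeSpectrum.comap (η.q A) Q
  have hcomp : ((η.eta P.asIdeal.ResidueField).comp (algebraMap A P.asIdeal.ResidueField)) =
      (evP η P).comp (η.q A) := rfl
  obtain ⟨φ, hφ⟩ := factors_q (η := η) hA Q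
  refine (η.map φ).injective ?_
  have hQ : φ.comp (algebraMap (η.M A) Q.asIdeal.ResidueField) = evP η P :=
    point_ext (bijective_Nmap_q hA).2 _ _ (RingHom.ext fun a => by
      simp only [RingHom.comp_apply]
      rw [← Ideal.ResidueField.map_algebraMap P.asIdeal Q.asIdeal (η.q A) rfl]
      exact RingHom.congr_fun hφ _)
  rw [Nmap_apply, ← map_comp_apply, hφ, map_eta_eq]
  show η.eta _ ((x : η.N A) P) = η.map φ (η.eta _ (algebraMap (η.M A) Q.asIdeal.ResidueField x))
  rw [natural η φ]
  exact congrArg (η.eta _) (RingHom.congr_fun hQ x).symm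

theorem bijective_q_M (hA : (minimalPrimes A).Finite) : Function.Bijective (η.q (η.M A)) := by
  refine ⟨fun x y h => t_injective η (congrArg Subtype.val h), fun y => ?_⟩
  obtain ⟨x, hx, he⟩ := (bijOn_Nmap_M (isIntegral_q η hA) (bijective_Nmap_q hA)).2.2 y.2
  exact ⟨⟨x, hx⟩, Subtype.ext ((Nmap_q_eq_t hA ⟨x, hx⟩).symm.trans he)⟩

theorem bijective_of_integral (hA : (minimalPrimes A).Finite) {C : Type u} [CommRing C] [IsReduced C]
    (g : η.M A →+* C) (hg : g.IsIntegral) (hN : Function.Bijective (η.Nmap g)) : Function.Bijective g := by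
  have hN' : Function.Bijective (η.Nmap (g.comp (η.q A))) := by
    have h := hN.comp (bijective_Nmap_q (η := η) hA)
    rwa [show ⇑(η.Nmap g) ∘ ⇑(η.Nmap (η.q A)) = ⇑(η.Nmap (g.comp (η.q A))) from
      funext fun x => (Nmap_comp η (η.q A) g x).symm] at h
  obtain ⟨g', h1, h2⟩ := exists_lift (RingHom.IsIntegral.trans _ _ (isIntegral_q η hA) hg) hN'
  have e : g'.comp g = RingHom.id _ := lift_unique (bijective_Nmap_q hA) _ _ (by rw [RingHom.comp_assoc, h1]; rfl)
  refine ⟨Function.LeftInverse.injective (RingHom.congr_fun e), fun c => ⟨g' c, t_injective η ?_⟩⟩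
  exact ((Nmap_t η g (g' c)).symm.trans ((congrArg (η.Nmap g) (Nmap_q_eq_t hA (g' c))).symm.trans
    (Nmap_comp η (η.q A) g _).symm)).trans (h2 c)

/-- Membership in `M` can be tested after an integral extension with surjective spectrum. -/
theorem mem_M_iff_Nmap (hf : f.IsIntegral) (hs : Function.Surjective (PrimeSpectrum.comap f)) (x : η.N A) :
    x ∈ η.M A ↔ η.Nmap f x ∈ η.M B := by
  refine ⟨Nmap_mem_M η f, fun hy => (mem_M_iff η x).2 fun R _ _ _ hR g => ?_⟩
  let K := FractionRing R
  let Ω := AlgebraicClosure K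
  let i : K →+* η.obj Ω := (η.eta Ω).comp (algebraMap K Ω)
  obtain ⟨h, hh⟩ := exists_extend_point hf hs ((algebraMap K Ω).comp ((algebraMap R K).comp g))
  -- a valuation ring of `F Ω` dominating `R`
  obtain ⟨V, ι, hι, hloc⟩ := exists_dominate (i.comp (algebraMap R K))
    ⟨IsLocalRing.maximalIdeal R, inferInstance⟩ (by
      rw [RingHom.ker_comp_of_injective _ i.injective,
        (RingHom.injective_iff_ker_eq_bot _).1 (IsFractionRing.injective R K)]
      exact bot_le)
  have hmem : ∀ b, η.eta Ω (h b) ∈ V.toSubring := fun b => by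
    obtain ⟨P, hP, hPb⟩ := hf b
    have hint : IsIntegral V (η.eta Ω (h b)) := by
      refine ⟨P.map (ι.comp g), hP.map _, ?_⟩
      rw [Polynomial.eval₂_map, show (algebraMap V (η.obj Ω)).comp (ι.comp g) = ((η.eta Ω).comp h).comp f from
        RingHom.ext fun a => (hι (g a)).trans (congrArg (η.eta Ω) (RingHom.congr_fun hh a).symm)]
      exact (Polynomial.hom_eval₂ P f ((η.eta Ω).comp h) b).symm.trans (by rw [hPb, map_zero])
    obtain ⟨v, hv⟩ := IsIntegrallyClosed.isIntegral_iff.1 hint
    exact hv ▸ v.2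
  let g' : B →+* V := ((η.eta Ω).comp h).codRestrict V.toSubring hmem
  have hg' : g'.comp f = ι.comp g :=
    RingHom.ext fun a => Subtype.ext ((congrArg (η.eta Ω) (RingHom.congr_fun hh a)).trans (hι (g a)).symm)
  obtain ⟨v, hv⟩ := evF_of_mem_M η hy V (inV_valuationSubring η (bijective_eta_obj η) V) g'
  simp only [evF_Nmap, RingHom.comp_assoc, hg'] at hv
  obtain ⟨k, hk⟩ := (show Function.Bijective (η.eta K) from hR).2 (evF η ((algebraMap R K).comp g) x)
  have hkv : i k = (v : η.obj Ω) := (η.eta _).injective (by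
    refine Eq.trans ?_ (hv _ V.subtype)
    rw [show V.subtype.comp (ι.comp g) = i.comp ((algebraMap R K).comp g) from
      RingHom.ext fun a => hι (g a), evF_comp, ← hk, natural])
  -- `k` lies in `R`
  obtain ⟨r, rfl⟩ : ∃ r, algebraMap R K r = k := by
    rcases ValuationRing.isInteger_or_isInteger R k with ⟨r, hr⟩ | ⟨r, hr⟩
    · exact ⟨r, hr⟩
    · by_cases hr' : IsUnit r
      · obtain ⟨u, rfl⟩ := hr'
        exact ⟨↑u⁻¹, by rw [map_units_inv, hr, inv_inv]⟩
      · have hrm : r ∈ (IsLocalRing.maximalIdeal V).comap ι := by rw [hloc]; exact hr'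
        by_cases hk0 : k = 0
        · exact ⟨0, by rw [map_zero, hk0]⟩
        refine absurd ?_ hrm
        refine IsUnit.of_mul_eq_one v (Subtype.ext ?_)
        show (ι r : η.obj Ω) * (v : η.obj Ω) = 1
        rw [hι, ← hkv, RingHom.comp_apply, hr, ← map_mul, inv_mul_cancel₀ hk0, map_one]
  refine ⟨r, fun q => ?_⟩
  have hvr : v = ι r := Subtype.ext (hkv.symm.trans (hι r).symm)
  obtain ⟨j, hj⟩ : ∃ j : PrimeSpectrum V, j.asIdeal.comap ι = q.asIdeal := by
    have hinj : Function.Injective ι := fun a b e => IsFractionRing.injective R K (i.injective (by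
      simpa only [← RingHom.comp_apply, ← hι] using congrArg Subtype.val e))
    have hmap : ∀ y ∈ Ideal.map ι q.asIdeal, ∃ b ∈ q.asIdeal, ι b ∣ y := by
      intro y hy
      induction hy using Submodule.span_induction with
      | mem y hy =>
        obtain ⟨b, hb, rfl⟩ := hy
        exact ⟨b, hb, dvd_rfl⟩
      | zero => exact ⟨0, zero_mem _, by rw [map_zero]⟩
      | add y z _ _ hy hz =>
        obtain ⟨b, hb, hby⟩ := hy
        obtain ⟨c, hc, hcz⟩ := hz
        rcases ValuationRing.dvd_total b c with hd | hd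
        · exact ⟨b, hb, dvd_add hby ((map_dvd ι hd).trans hcz)⟩
        · exact ⟨c, hc, dvd_add ((map_dvd ι hd).trans hby) hcz⟩
      | smul a y _ hy =>
        obtain ⟨b, hb, hby⟩ := hy
        exact ⟨b, hb, Dvd.dvd.mul_left hby a⟩
    have hc : (Ideal.map ι q.asIdeal).comap ι = q.asIdeal := by
      refine le_antisymm (fun a ha => ?_) Ideal.le_comap_map
      obtain ⟨b, hb, t, ht⟩ := hmap _ ha
      by_contra hna
      rcases ValuationRing.dvd_total a b with ⟨c, rfl⟩ | hd
      · have hcq : c ∈ q.asIdeal := (q.2.mem_or_mem hb).resolve_left hna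
        have hcm : c ∈ (IsLocalRing.maximalIdeal V).comap ι := by
          rw [hloc]; exact IsLocalRing.le_maximalIdeal q.2.ne_top hcq
        refine hcm (IsUnit.of_mul_eq_one t ?_)
        refine mul_left_cancel₀ (fun h0 => hna ?_ : ι a ≠ 0) ?_
        · rw [hinj (h0.trans (map_zero ι).symm)]; exact zero_mem _
        · rw [mul_one, ← mul_assoc, ← map_mul, ← ht]
      · exact hna (Ideal.mem_of_dvd _ hd hb)
    obtain ⟨j, hj, e⟩ := (Ideal.comap_map_eq_self_iff_of_isPrime q.asIdeal).1 hc
    exact ⟨⟨j, hj⟩, e⟩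
  have hjq : RingHom.ker ((algebraMap V j.asIdeal.ResidueField).comp ι) = q.asIdeal := by
    rw [← RingHom.comap_ker, Ideal.ker_algebraMap_residueField, hj]
  let ψ : q.asIdeal.ResidueField →+* j.asIdeal.ResidueField :=
    Ideal.ResidueField.lift q.asIdeal ((algebraMap V j.asIdeal.ResidueField).comp ι) hjq.ge
      fun a ha => isUnit_iff_ne_zero.2 fun h0 => ha (hjq ▸ h0)
  refine (η.map ψ).injective ?_
  have hψ : ∀ a, ψ (algebraMap R q.asIdeal.ResidueField a) = algebraMap V j.asIdeal.ResidueField (ι a) :=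
    fun a => Ideal.ResidueField.lift_algebraMap q.asIdeal ((algebraMap V j.asIdeal.ResidueField).comp ι) _ _ a
  rw [← evF_comp, natural, show ψ.comp ((algebraMap R q.asIdeal.ResidueField).comp g) =
    (algebraMap V j.asIdeal.ResidueField).comp (ι.comp g) from RingHom.ext fun a => hψ (g a), hψ]
  refine (hv _ (algebraMap V j.asIdeal.ResidueField)).trans (congrArg (η.eta _) ?_)
  rw [hvr]

end Groth.Agent.EtaPt26
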