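import Groth.Agent.Lib.EtaPt26.Rel
import Groth.Prelude.Def_EGA4b
import Mathlib.RingTheory.Localization.Integral
import Mathlib.FieldTheory.Perfect

/-! # Valuation rings, fields, normal rings, products, localisation -/

universe u

open EtaPt

namespace Groth.Agent.EtaPt26

variable {η : FieldEndo.{u}} {A : Type u} [CommRing A]

/-- A root of an element of `A` of radicial degree lies in `M`. -/
theorem mem_M_of_pow (x : η.N A) (N : ℕ) (hN : 0 < N) (a : A) (hx : x ^ N = η.t A a)
    (hinj : ∀ (L : Type u) [Field L], (A →+* L) → ∀ u v : L, u ^ N = v ^ N → u = v) : x ∈ η.M A := by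
  refine (mem_M_iff η x).2 fun R _ _ _ hR g => ?_
  let K := FractionRing R
  obtain ⟨k, hk⟩ := (show Function.Bijective (η.eta K) from hR).2 (evF η ((algebraMap R K).comp g) x)
  have hkN : k ^ N = algebraMap R K (g a) := (η.eta K).injective (by
    rw [map_pow, hk, ← map_pow, hx, evF_t]; rfl)
  obtain ⟨r, rfl⟩ : ∃ r, algebraMap R K r = k :=
    IsIntegrallyClosed.isIntegral_iff.1 (IsIntegral.of_pow hN (hkN ▸ isIntegral_algebraMap))
  refine ⟨r, fun q => hinj (η.obj q.asIdeal.ResidueField)
    ((η.eta _).comp ((algebraMap R q.asIdeal.ResidueField).comp g)) _ _ ?_⟩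
  rw [← map_pow, hx, evF_t, ← map_pow, ← map_pow, RingHom.comp_apply]
  rw [← map_pow] at hkN
  rw [IsFractionRing.injective R K hkN]

theorem M_eq_top (K : Type u) [Field K] : η.M K = ⊤ := by
  refine eq_top_iff.2 fun x _ => ?_
  haveI : Nonempty (PrimeSpectrum K) := inferInstance
  let p : PrimeSpectrum K := Classical.arbitrary _
  obtain ⟨n, z, hz⟩ := η.exists_pow_mem_range_eta p.asIdeal.ResidueField (x p)
  obtain ⟨a, rfl⟩ := p.asIdeal.algEquivResidueFieldOfField.surjective z
  refine mem_M_of_pow x (ringExpChar p.asIdeal.ResidueField ^ n)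
    (pow_pos (expChar_pos p.asIdeal.ResidueField _) n) a (funext fun P => ?_) fun L _ h u v e => ?_
  · obtain rfl : P = p := Subsingleton.elim _ _
    exact hz.symm
  · exact pow_inj (h.comp p.asIdeal.algEquivResidueFieldOfField.symm.toRingEquiv.toRingHom) n e

theorem bijective_eta_generic [IsDomain A] (hA : η.InV A) :
    Function.Bijective (η.eta (⊥ : Ideal A).ResidueField) :=
  (inV_iff η A _).1 hA

theorem bijective_q_of_closed [IsDomain A] [IsIntegrallyClosed A] (hA : η.InV A) : Function.Bijective (η.q A) := by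
  refine ⟨fun a b h => t_injective η (congrArg Subtype.val h), fun x => ?_⟩
  obtain ⟨k, hk⟩ := (bijective_eta_generic hA).2 ((x : η.N A) ⟨⊥, Ideal.isPrime_bot⟩)
  obtain ⟨P, hP, hPx⟩ := isIntegralElem_apply η x.2 ⟨⊥, Ideal.isPrime_bot⟩
  obtain ⟨a, rfl⟩ : ∃ a, algebraMap A _ a = k := by
    refine IsIntegrallyClosed.isIntegral_iff.1 ⟨P, hP, (η.eta _).injective ?_⟩
    rw [map_zero, Polynomial.hom_eval₂, hk]
    exact hPx
  exact ⟨a, Subtype.ext (eq_of_generic η (η.t_mem_M A a) x.2 hk)⟩

theorem expChar_obj (K : Type u) [Field K] (p : ℕ) [CharP K p] : CharP (η.obj K) p :=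
  (RingHom.charP_iff_charP (η.eta K) p).1 ‹_›

theorem exists_mem_M_of_integral [IsDomain A] [ValuationRing A]
    (hη : η.InV A ∨ ∀ (k : Type u) [Field k], ringChar k = ringChar A →
      Function.Bijective (η.eta k) → PerfectField k)
    (y : η.obj (⊥ : Ideal A).ResidueField)
    (hy : ((η.eta (⊥ : Ideal A).ResidueField).comp (algebraMap A (⊥ : Ideal A).ResidueField)).IsIntegralElem y) :
    ∃ x : η.M A, (x : η.N A) ⟨⊥, Ideal.isPrime_bot⟩ = y := by
  let K := (⊥ : Ideal A).ResidueField
  letI : Algebra A (η.obj K) := ((η.eta K).comp (algebraMap A K)).toAlgebra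
  -- a radicial power lies in `A`
  obtain ⟨n, k, hk⟩ := η.exists_pow_mem_range_eta K y
  obtain ⟨r, rfl⟩ : ∃ r, algebraMap A K r = k := by
    refine IsIntegrallyClosed.isIntegral_iff.1 ?_
    have h : IsIntegral A (η.eta K k) := hk ▸ IsIntegral.pow hy _
    obtain ⟨P, hP, hPx⟩ := h
    refine ⟨P, hP, (η.eta K).injective ?_⟩
    rw [map_zero, Polynomial.hom_eval₂]
    exact hPx
  rcases (CharP.char_is_prime_or_zero A (ringChar A)) with hp | h0
  · rcases hη with hV | hperf
    · obtain ⟨k', rfl⟩ := (bijective_eta_generic hV).2 y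
      obtain ⟨a, rfl⟩ : ∃ a, algebraMap A K a = k' := by
        refine IsIntegrallyClosed.isIntegral_iff.1 ?_
        obtain ⟨P, hP, hPx⟩ := hy
        refine ⟨P, hP, (η.eta K).injective ?_⟩
        rw [map_zero, Polynomial.hom_eval₂]
        exact hPx
      exact ⟨η.q A a, rfl⟩
    set p := ringChar A
    haveI := Fact.mk hp
    have hres : ∀ P : PrimeSpectrum A, CharP P.asIdeal.ResidueField p := fun P =>
      ringChar.of_eq (CharP.ringChar_of_prime_eq_zero hp (by
        rw [← map_natCast (algebraMap A P.asIdeal.ResidueField), CharP.cast_eq_zero A p, map_zero]))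
    have hroot : ∀ P : PrimeSpectrum A, ∃ z : η.obj P.asIdeal.ResidueField,
        z ^ p ^ n = η.eta _ (algebraMap A P.asIdeal.ResidueField r) := by
      intro P
      haveI := hres P
      haveI := expChar_obj (η := η) P.asIdeal.ResidueField p
      haveI := hperf (η.obj P.asIdeal.ResidueField) (ringChar.eq _ p) (bijective_eta_obj η)
      haveI : ExpChar (η.obj P.asIdeal.ResidueField) p := ExpChar.prime hp
      haveI := PerfectField.toPerfectRing (K := η.obj P.asIdeal.ResidueField) p
      obtain ⟨z, hz⟩ := (iterateFrobeniusEquiv (η.obj P.asIdeal.ResidueField) p n).surjective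
        (η.eta _ (algebraMap A P.asIdeal.ResidueField r))
      exact ⟨z, hz⟩
    choose z hz using hroot
    haveI := hres ⟨⊥, Ideal.isPrime_bot⟩
    haveI : CharP K p := hres ⟨⊥, Ideal.isPrime_bot⟩
    haveI : ExpChar K p := ExpChar.prime hp
    have hm : (fun P => z P : η.N A) ∈ η.M A := by
      refine mem_M_of_pow _ (p ^ n) (pow_pos hp.pos n) r (funext hz) fun L _ h u v e => ?_
      haveI : CharP L p := ringChar.of_eq (CharP.ringChar_of_prime_eq_zero hp (by
        rw [← map_natCast h, CharP.cast_eq_zero A p, map_zero]))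
      haveI : ExpChar L p := ExpChar.prime hp
      exact iterateFrobenius_inj L p n (by simpa only [iterateFrobenius_def] using e)
    refine ⟨⟨_, hm⟩, pow_inj (η.eta K) n ?_⟩
    rw [← hk, ringExpChar.eq K p]
    exact hz _
  · haveI : CharP A 0 := h0 ▸ ringChar.charP A
    haveI : CharZero A := CharP.charP_to_charZero A
    haveI : CharZero K := charZero_of_injective_algebraMap (IsFractionRing.injective A K)
    refine ⟨η.q A r, (?_ : η.eta K (algebraMap A K r) = y)⟩
    rw [hk, ringExpChar.eq K 1, one_pow, pow_one]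

theorem isIntegralElem_or [IsDomain A] [ValuationRing A] (y : η.obj (⊥ : Ideal A).ResidueField) :
    ((η.eta (⊥ : Ideal A).ResidueField).comp (algebraMap A (⊥ : Ideal A).ResidueField)).IsIntegralElem y ∨
    ((η.eta (⊥ : Ideal A).ResidueField).comp (algebraMap A (⊥ : Ideal A).ResidueField)).IsIntegralElem y⁻¹ := by
  let K := (⊥ : Ideal A).ResidueField
  letI : Algebra A (η.obj K) := ((η.eta K).comp (algebraMap A K)).toAlgebra
  obtain ⟨n, k, hk⟩ := η.exists_pow_mem_range_eta K y
  have hN : 0 < ringExpChar K ^ n := pow_pos (expChar_pos K _) n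
  rcases ValuationRing.isInteger_or_isInteger A k with ⟨r, hr⟩ | ⟨r, hr⟩
  · exact Or.inl (IsIntegral.of_pow hN (by rw [← hk, ← hr]; exact isIntegral_algebraMap))
  · exact Or.inr (IsIntegral.of_pow hN (by rw [inv_pow, ← hk, ← map_inv₀, ← hr]; exact isIntegral_algebraMap))

theorem bijective_q_of_normal (hn : EGA4.IsNormalRing A) (hA : (minimalPrimes A).Finite)
    (hη : ∀ p : PrimeSpectrum A, p.asIdeal ∈ minimalPrimes A → Function.Bijective (η.eta p.asIdeal.ResidueField)) :
    Function.Bijective (η.q A) := by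
  classical
  haveI : IsReduced A := by
    refine isReduced_ofLocalizationMaximal A fun J hJ => ?_
    haveI := hJ.isPrime
    obtain ⟨hd, -⟩ := hn J
    haveI := hd
    infer_instance
  refine ⟨fun a b h => t_injective η (congrArg Subtype.val h), fun x => ?_⟩
  let I : Ideal A :=
    { carrier := {s | η.t A s * (x : η.N A) ∈ (η.t A).range}
      add_mem' := fun {a b} ha hb => by
        simp only [Set.mem_setOf_eq, map_add, add_mul] at ha hb ⊢
        exact add_mem ha hb
      zero_mem' := by
        simp only [Set.mem_setOf_eq, map_zero, zero_mul]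
        exact zero_mem _
      smul_mem' := fun c a ha => by
        simp only [Set.mem_setOf_eq, smul_eq_mul, map_mul, mul_assoc] at ha ⊢
        exact mul_mem ⟨c, rfl⟩ ha }
  suffices hI : I = ⊤ by
    obtain ⟨a, ha⟩ := (I.eq_top_iff_one.1 hI : η.t A 1 * (x : η.N A) ∈ (η.t A).range)
    exact ⟨a, Subtype.ext (ha.trans (by rw [map_one, one_mul]))⟩
  by_contra hI
  obtain ⟨m, hm, hle⟩ := I.exists_le_maximal hI
  haveI := hm.isPrime
  obtain ⟨hd, hc⟩ := hn m
  haveI : IsDomain (Localization.AtPrime m) := hd
  haveI : IsIntegrallyClosed (Localization.AtPrime m) := hc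
  let K := FractionRing (Localization.AtPrime m)
  let g : A →+* K := (algebraMap (Localization.AtPrime m) K).comp (algebraMap A _)
  have hker : RingHom.ker g = (⊥ : Ideal (Localization.AtPrime m)).comap (algebraMap A _) := by
    rw [RingHom.ker_comp_of_injective _ (IsFractionRing.injective _ K)]; rfl
  have hsurj : Function.Surjective (ptLift g) := by
    intro z
    obtain ⟨a, b, -, rfl⟩ := IsFractionRing.div_surjective (Localization.AtPrime m) z
    have : ∀ w : Localization.AtPrime m, ∃ u, ptLift g u = algebraMap _ K w := fun w => by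
      obtain ⟨a, s, rfl⟩ := IsLocalization.exists_mk'_eq m.primeCompl w
      refine ⟨algebraMap A _ a / algebraMap A _ (s : A), ?_⟩
      rw [map_div₀, ptLift_algebraMap, ptLift_algebraMap, div_eq_iff]
      · show algebraMap (Localization.AtPrime m) K _ = _ * algebraMap (Localization.AtPrime m) K _
        rw [← map_mul]; exact congrArg _ (IsLocalization.mk'_spec (Localization.AtPrime m) a s).symm
      · exact ((IsLocalization.map_units (Localization.AtPrime m) s).map (algebraMap _ K)).ne_zero
    obtain ⟨u, hu⟩ := this a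
    obtain ⟨v, hv⟩ := this b
    exact ⟨u / v, by rw [map_div₀, hu, hv]⟩
  have hlem : (kerPt g).asIdeal ≤ m := fun a ha => by
    by_contra h
    have hu := ((IsLocalization.map_units (Localization.AtPrime m) (⟨a, h⟩ : m.primeCompl)).map
      (algebraMap _ K)).ne_zero
    exact hu ha
  have huniq : ∀ P : Ideal A, P.IsPrime → P ≤ m → (kerPt g).asIdeal ≤ P := fun P hP hPm => by
    obtain ⟨Q, hQ⟩ : ∃ Q : Ideal (Localization.AtPrime m), Q.comap (algebraMap A _) = P :=
      ⟨_, IsLocalization.comap_map_of_isPrime_disjoint m.primeCompl (Localization.AtPrime m) hP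
        (Set.disjoint_left.2 fun a ha haP => ha (hPm haP))⟩
    show RingHom.ker g ≤ P
    rw [hker, ← hQ]
    exact Ideal.comap_mono bot_le
  have hmin : (kerPt g).asIdeal ∈ minimalPrimes A :=
    ⟨⟨(kerPt g).2, bot_le⟩, fun P hP hle' => huniq P hP.1 (hle'.trans hlem)⟩
  have hbij : Function.Bijective (η.eta K) :=
    bijective_eta_congr η (RingEquiv.ofBijective (ptLift g) ⟨RingHom.injective _, hsurj⟩) (hη _ hmin)
  obtain ⟨k, hk⟩ := hbij.2 (evF η g x)
  obtain ⟨P, hP, hPx⟩ := isIntegralElem_apply η x.2 (kerPt g)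
  obtain ⟨w, rfl⟩ : ∃ w, algebraMap (Localization.AtPrime m) K w = k := by
    refine IsIntegrallyClosed.isIntegral_iff.1 ⟨P.map (algebraMap A _), hP.map _, (η.eta K).injective ?_⟩
    rw [map_zero, Polynomial.eval₂_map, Polynomial.hom_eval₂, hk]
    have h := congrArg (η.map (ptLift g)) hPx
    rw [map_zero, Polynomial.hom_eval₂, show (η.map (ptLift g)).comp
      ((η.eta _).comp (algebraMap A (kerPt g).asIdeal.ResidueField)) = (η.eta K).comp g from
      RingHom.ext fun a => (natural η _ _).trans (congrArg (η.eta K) (ptLift_algebraMap g a))] at h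
    exact h
  obtain ⟨a, s, rfl⟩ := IsLocalization.exists_mk'_eq m.primeCompl w
  let z : η.N A := η.t A s * (x : η.N A) - η.t A a
  have hz0 : z (kerPt g) = 0 := by
    refine (η.map (ptLift g)).injective ?_
    rw [← evF_apply, map_zero, map_sub, map_mul, evF_t, evF_t, ← hk, ← map_mul, ← map_sub]
    refine (map_eq_zero _).2 (sub_eq_zero.2 ?_)
    show algebraMap (Localization.AtPrime m) K (algebraMap A _ (s : A)) * _ = algebraMap _ K (algebraMap A _ a)
    rw [← map_mul, IsLocalization.mk'_spec']
    rfl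
  have hc : ∀ P : PrimeSpectrum A, ∃ c : A, c ∉ m ∧ (P.asIdeal ∈ minimalPrimes A → P ≠ kerPt g → c ∈ P.asIdeal) := by
    intro P
    by_cases hP : P.asIdeal ∈ minimalPrimes A ∧ P ≠ kerPt g
    · obtain ⟨c, hcP, hcm⟩ := SetLike.not_le_iff_exists.1 (fun hle' : P.asIdeal ≤ m =>
        hP.2 (PrimeSpectrum.ext (le_antisymm (hP.1.2 hmin.1 (huniq _ P.2 hle')) (huniq _ P.2 hle'))))
      exact ⟨c, hcm, fun _ _ => hcP⟩
    · exact ⟨1, fun h => hm.ne_top (m.eq_top_iff_one.2 h), fun h h' => absurd ⟨h, h'⟩ hP⟩
  choose c hcm hcP using hc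
  let s' := ∏ P ∈ (finite_minPts hA).toFinset, c P
  have hs' : s' ∉ m := fun h => by
    obtain ⟨P, -, hP⟩ := hm.isPrime.prod_mem_iff.1 h
    exact hcm P hP
  have h0 : η.t A s' * z = 0 :=
    eq_zero_of_minimal η (mul_mem (η.t_mem_M A s') (sub_mem (mul_mem (η.t_mem_M A s) x.2) (η.t_mem_M A a)))
      fun P hP => by
        by_cases hPg : P = kerPt g
        · subst hPg
          rw [Pi.mul_apply, hz0, mul_zero]
        · show η.eta _ (algebraMap A P.asIdeal.ResidueField s') * _ = 0
          rw [Ideal.algebraMap_residueField_eq_zero.2 (Ideal.mem_of_dvd _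
            (Finset.dvd_prod_of_mem c ((finite_minPts hA).mem_toFinset.2 hP)) (hcP P hP hPg)), map_zero, zero_mul]
  refine (hm.isPrime.mem_or_mem (hle (show s' * (s : A) ∈ I from ⟨s' * a, ?_⟩))).elim hs' s.2
  rw [map_mul, map_mul]
  linear_combination -h0

theorem surjective_Nmap_of {B : Type u} [CommRing B] (f : A →+* B) (hb : Function.Injective (PrimeSpectrum.comap f))
    (hs : f.SurjectiveOnStalks) : Function.Surjective (η.Nmap f) := by
  classical
  intro y
  have h : ∀ P : PrimeSpectrum A, ∃ z : η.obj P.asIdeal.ResidueField, ∀ (Q : PrimeSpectrum B)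
      (ψ : P.asIdeal.ResidueField →+* Q.asIdeal.ResidueField),
      ψ.comp (algebraMap A _) = (algebraMap B _).comp f → η.map ψ z = y Q := by
    intro P
    by_cases hP : ∃ Q, PrimeSpectrum.comap f Q = P
    · obtain ⟨Q, rfl⟩ := hP
      obtain ⟨z, hz⟩ := (bijective_map_equiv η (RingEquiv.ofBijective _
        (hs.residueFieldMap_bijective (PrimeSpectrum.comap f Q).asIdeal Q.asIdeal rfl))).2 (y Q)
      refine ⟨z, fun Q' ψ hψ => ?_⟩
      have e : Q' = Q := by
        refine hb (PrimeSpectrum.ext ?_)
        show Q'.asIdeal.comap f = (PrimeSpectrum.comap f Q).asIdeal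
        conv_rhs => rw [← Ideal.ker_algebraMap_residueField (PrimeSpectrum.comap f Q).asIdeal]
        conv_lhs => rw [← Ideal.ker_algebraMap_residueField Q'.asIdeal, RingHom.comap_ker, ← hψ,
          RingHom.ker_comp_of_injective _ ψ.injective]
      subst e
      rw [← hz]
      congr 2
      exact Ideal.ResidueField.ringHom_ext (hψ.trans (RingHom.ext fun a =>
        (Ideal.ResidueField.map_algebraMap _ _ f rfl a).symm))
    · refine ⟨0, fun Q ψ hψ => absurd ⟨Q, PrimeSpectrum.ext ?_⟩ hP⟩
      show Q.asIdeal.comap f = P.asIdeal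
      conv_rhs => rw [← Ideal.ker_algebraMap_residueField P.asIdeal, ← RingHom.ker_comp_of_injective
        (algebraMap A P.asIdeal.ResidueField) ψ.injective, hψ]
      conv_lhs => rw [← Ideal.ker_algebraMap_residueField Q.asIdeal, RingHom.comap_ker]
  choose x hx using h
  exact ⟨x, funext fun Q => hx _ Q _ (RingHom.ext fun a => Ideal.ResidueField.map_algebraMap _ _ f rfl a)⟩

theorem surjective_Nmap_away (a : A) : Function.Surjective (η.Nmap (algebraMap A (Localization.Away a))) :=
  surjective_Nmap_of _ (PrimeSpectrum.localization_comap_injective _ (Submonoid.powers a))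
    (RingHom.surjectiveOnStalks_of_isLocalization (Submonoid.powers a) _)

theorem M_away (hA : (minimalPrimes A).Finite) (a : A) :
    ∀ y ∈ η.M (Localization.Away a), ∃ x ∈ η.M A, ∃ n : ℕ,
        y * η.t (Localization.Away a) (algebraMap A (Localization.Away a) a) ^ n =
          η.Nmap (algebraMap A (Localization.Away a)) x := by
  intro y hy
  obtain ⟨x0, rfl⟩ := surjective_Nmap_away a y
  set A' := Localization.Away a
  have hA' : (minimalPrimes A').Finite := by
    refine Set.Finite.of_finite_image (f := Ideal.comap (algebraMap A A')) (hA.subset ?_) ?_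
    · rintro _ ⟨p, hp, rfl⟩
      haveI := hp.1.1
      refine ⟨⟨inferInstance, bot_le⟩, fun P hP hle => ?_⟩
      haveI := hP.1
      have hd : Disjoint (Submonoid.powers a : Set A) P :=
        Set.disjoint_of_subset_right hle
          ((IsLocalization.isPrime_iff_isPrime_disjoint (Submonoid.powers a) A' p).1 hp.1.1).2
      have hcm := IsLocalization.comap_map_of_isPrime_disjoint (Submonoid.powers a) A' hP.1 hd
      rw [← hcm]
      exact Ideal.comap_mono (hp.2 ⟨IsLocalization.isPrime_of_isPrime_disjoint _ A' P hP.1 hd, bot_le⟩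
        (Ideal.map_le_iff_le_comap.2 hle))
    · intro p _ p' _ h
      exact IsLocalization.orderEmbedding (Submonoid.powers a) A' |>.injective h
  letI : Algebra A' (η.M A') := (η.q A').toAlgebra
  letI : Algebra A (η.M A') := ((η.q A').comp (algebraMap A A')).toAlgebra
  haveI : IsScalarTower A A' (η.M A') := IsScalarTower.of_algebraMap_eq' rfl
  obtain ⟨⟨_, n, rfl⟩, hn⟩ := IsIntegral.exists_multiple_integral_of_isLocalization (Submonoid.powers a)
    (⟨_, hy⟩ : η.M A') (isIntegral_q η hA' _)
  obtain ⟨P, hP, hPy⟩ := hn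
  refine ⟨η.t A a ^ (n + 1) * x0, ?_, n + 1, by rw [map_mul, map_pow, Nmap_t, mul_comm]⟩
  refine (mem_M_iff η _).2 fun R _ _ _ hR g => ?_
  by_cases hga : g a = 0
  · refine ⟨0, fun q => ?_⟩
    rw [map_zero, map_zero, map_mul, map_pow, evF_t, RingHom.comp_apply, hga, map_zero, map_zero,
      zero_pow (Nat.succ_ne_zero n), zero_mul]
  let R' := Localization.Away (g a)
  let K := FractionRing R
  have hle : Submonoid.powers (g a) ≤ nonZeroDivisors R :=
    Submonoid.powers_le.2 (mem_nonZeroDivisors_of_ne_zero hga)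
  haveI : IsDomain R' := IsLocalization.isDomain_localization hle
  let hK : R' →+* K := IsLocalization.Away.lift (g a) (g := algebraMap R K)
    (isUnit_iff_ne_zero.2 fun h => hga (IsFractionRing.injective R K (h.trans (map_zero _).symm)))
  letI : Algebra R' K := hK.toAlgebra
  haveI : IsScalarTower R R' K := IsScalarTower.of_algebraMap_eq' (IsLocalization.Away.lift_comp (g a) _).symm
  haveI : IsFractionRing R' K :=
    IsFractionRing.isFractionRing_of_isDomain_of_isLocalization (Submonoid.powers (g a)) R' K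
  haveI : ValuationRing R' := ValuationRing.iff_dvd_total.2 ⟨fun u v => by
    obtain ⟨u1, s, rfl⟩ := IsLocalization.exists_mk'_eq (Submonoid.powers (g a)) u
    obtain ⟨v1, t, rfl⟩ := IsLocalization.exists_mk'_eq (Submonoid.powers (g a)) v
    simp only [IsLocalization.mk'_eq_mul_mk'_one u1 s, IsLocalization.mk'_eq_mul_mk'_one v1 t]
    have hu : ∀ s : Submonoid.powers (g a), IsUnit (IsLocalization.mk' R' (1 : R) s) := fun s =>
      IsUnit.of_mul_eq_one (algebraMap R R' s) (by rw [IsLocalization.mk'_spec, map_one])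
    rw [(hu s).mul_right_dvd, (hu t).mul_right_dvd, (hu t).dvd_mul_right, (hu s).dvd_mul_right]
    exact (ValuationRing.dvd_total u1 v1).imp (map_dvd _) (map_dvd _)⟩
  have hR' : η.InV R' := (inV_iff η R' K).2 hR
  obtain ⟨v, hv⟩ := evF_of_mem_M η hy R' hR' (Localization.awayMap g a)
  have hsq : (Localization.awayMap g a).comp (algebraMap A A') = (algebraMap R R').comp g :=
    IsLocalization.map_comp _
  have hv' : ∀ (L' : Type u) [Field L'] (h : R' →+* L'),
      evF η ((h.comp (algebraMap R R')).comp g) x0 = η.eta L' (h v) := fun L' _ h => by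
    rw [RingHom.comp_assoc, ← hsq, ← RingHom.comp_assoc, ← evF_Nmap]
    exact hv L' h
  obtain ⟨r, hr⟩ : ∃ r, algebraMap R K r = algebraMap R K (g a) ^ n * hK v := by
    refine IsIntegrallyClosed.isIntegral_iff.1 ⟨P.map g, hP.map g, (η.eta K).injective ?_⟩
    rw [map_zero, Polynomial.eval₂_map, Polynomial.hom_eval₂]
    have h := congrArg ((evF η (hK.comp (Localization.awayMap g a))).comp (η.M A').subtype) hPy
    rw [Polynomial.hom_eval₂, map_zero] at h
    have e1 : ((evF η (hK.comp (Localization.awayMap g a))).comp (η.M A').subtype).comp (algebraMap A (η.M A'))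
        = (η.eta K).comp ((algebraMap R K).comp g) := by
      refine RingHom.ext fun z => ?_
      refine (evF_t η (hK.comp (Localization.awayMap g a)) (algebraMap A A' z)).trans (congrArg (η.eta K) ?_)
      show hK ((Localization.awayMap g a).comp (algebraMap A A') z) = _
      rw [hsq]
      exact IsLocalization.Away.lift_eq (g a) _ (g z)
    rw [e1] at h
    convert h using 1
    congr 1
    show _ = evF η (hK.comp (Localization.awayMap g a))
      (η.t A' (algebraMap A A' (a ^ n)) * η.Nmap (algebraMap A A') x0)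
    rw [map_mul (evF η _), evF_t, evF_Nmap, RingHom.comp_assoc]
    erw [hsq, ← RingHom.comp_assoc, hv' K hK]
    rw [map_mul, ← map_pow (algebraMap R K), ← map_pow g]
    congr 1
    refine congrArg (η.eta K) ?_
    show _ = hK ((Localization.awayMap g a).comp (algebraMap A A') (a ^ n))
    rw [hsq]
    exact (IsLocalization.Away.lift_eq (g a) _ (g (a ^ n))).symm
  have hrv : algebraMap R R' r = algebraMap R R' (g a) ^ n * v := IsFractionRing.injective R' K (by
    rw [map_mul, map_pow, ← IsScalarTower.algebraMap_apply, ← IsScalarTower.algebraMap_apply]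
    exact hr)
  refine ⟨g a * r, fun q => ?_⟩
  rw [map_mul, map_pow, evF_t, RingHom.comp_apply]
  by_cases hq : algebraMap R q.asIdeal.ResidueField (g a) = 0
  · rw [hq, map_mul (algebraMap R q.asIdeal.ResidueField), hq, map_zero, zero_pow (Nat.succ_ne_zero n), zero_mul,
      zero_mul, map_zero]
  let hq' : R' →+* q.asIdeal.ResidueField :=
    IsLocalization.Away.lift (g a) (g := algebraMap R q.asIdeal.ResidueField) (isUnit_iff_ne_zero.2 hq)
  have hcomp : hq'.comp (algebraMap R R') = algebraMap R q.asIdeal.ResidueField :=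
    IsLocalization.Away.lift_comp (g a) _
  have h1 := hv' _ hq'
  rw [hcomp] at h1
  have h2 : algebraMap R q.asIdeal.ResidueField r = algebraMap R q.asIdeal.ResidueField (g a) ^ n * hq' v := by
    rw [← hcomp]
    simp only [RingHom.comp_apply]
    rw [hrv, map_mul, map_pow]
  rw [h1, ← map_pow, ← map_mul, map_mul (algebraMap R q.asIdeal.ResidueField), h2]
  congr 1
  ring

end Groth.Agent.EtaPt26
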